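import Cfsg.Agent.Recog71.Fi23Out.Data
import Cfsg.Agent.Recog71.FischerOutCore
import Cfsg.Agent.SporB.Fi23.Rep.Data

set_option autoImplicit false
set_option maxRecDepth 100000

namespace Cfsg.Agent.Recog71.Fi23Out

open Cfsg.Agent.CosetEnum

theorem code0 : allRange (fun c => FischerOut.comboOK Fi23.Rep.tbl pi base ((FischerOut.combos rounds).getD c [])
    (codes0.getD (c - 0) (3, 0, []))) 0 128 = true := by decide +kernel

theorem code1 : allRange (fun c => FischerOut.comboOK Fi23.Rep.tbl pi base ((FischerOut.combos rounds).getD c [])
    (codes1.getD (c - 128) (3, 0, []))) 128 128 = true := by decide +kernel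

theorem code2 : allRange (fun c => FischerOut.comboOK Fi23.Rep.tbl pi base ((FischerOut.combos rounds).getD c [])
    (codes2.getD (c - 256) (3, 0, []))) 256 128 = true := by decide +kernel

theorem code3 : allRange (fun c => FischerOut.comboOK Fi23.Rep.tbl pi base ((FischerOut.combos rounds).getD c [])
    (codes3.getD (c - 384) (3, 0, []))) 384 128 = true := by decide +kernel

end Cfsg.Agent.Recog71.Fi23Out
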