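import Cfsg.Agent.Recog71.Fi23Out.Data
import Cfsg.Agent.Recog71.FischerOutCore
import Cfsg.Agent.SporB.Fi23.Rep.Data

set_option autoImplicit false
set_option maxRecDepth 100000

namespace Cfsg.Agent.Recog71.Fi23Out

open Cfsg.Agent.CosetEnum

theorem code12 : allRange (fun c => FischerOut.comboOK Fi23.Rep.tbl pi base ((FischerOut.combos rounds).getD c [])
    (codes12.getD (c - 1536) (3, 0, []))) 1536 128 = true := by decide +kernel

theorem code13 : allRange (fun c => FischerOut.comboOK Fi23.Rep.tbl pi base ((FischerOut.combos rounds).getD c [])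
    (codes13.getD (c - 1664) (3, 0, []))) 1664 128 = true := by decide +kernel

theorem code14 : allRange (fun c => FischerOut.comboOK Fi23.Rep.tbl pi base ((FischerOut.combos rounds).getD c [])
    (codes14.getD (c - 1792) (3, 0, []))) 1792 128 = true := by decide +kernel

theorem code15 : allRange (fun c => FischerOut.comboOK Fi23.Rep.tbl pi base ((FischerOut.combos rounds).getD c [])
    (codes15.getD (c - 1920) (3, 0, []))) 1920 128 = true := by decide +kernel

end Cfsg.Agent.Recog71.Fi23Out
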