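import Cfsg.Agent.Recog71.Fi23Out.Data
import Cfsg.Agent.Recog71.FischerOutCore
import Cfsg.Agent.SporB.Fi23.Rep.Data

set_option autoImplicit false
set_option maxRecDepth 100000

namespace Cfsg.Agent.Recog71.Fi23Out

open Cfsg.Agent.CosetEnum

theorem nodeOK0 : FischerOut.nodeOK Fi23.Rep.tbl pi prev0 0 roots0 ws0 = true := by decide +kernel

theorem node0_0 : allRange (fun p => FischerOut.nodePoint Fi23.Rep.tbl pi prev0 0 roots0 ws0 rank0 p) 0 2048 = true := by decide +kernel

theorem node0_1 : allRange (fun p => FischerOut.nodePoint Fi23.Rep.tbl pi prev0 0 roots0 ws0 rank0 p) 2048 2048 = true := by decide +kernel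

theorem node0_2 : allRange (fun p => FischerOut.nodePoint Fi23.Rep.tbl pi prev0 0 roots0 ws0 rank0 p) 4096 2048 = true := by decide +kernel

theorem node0_3 : allRange (fun p => FischerOut.nodePoint Fi23.Rep.tbl pi prev0 0 roots0 ws0 rank0 p) 6144 2048 = true := by decide +kernel

theorem node0_4 : allRange (fun p => FischerOut.nodePoint Fi23.Rep.tbl pi prev0 0 roots0 ws0 rank0 p) 8192 2048 = true := by decide +kernel

theorem node0_5 : allRange (fun p => FischerOut.nodePoint Fi23.Rep.tbl pi prev0 0 roots0 ws0 rank0 p) 10240 2048 = true := by decide +kernel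

theorem node0_6 : allRange (fun p => FischerOut.nodePoint Fi23.Rep.tbl pi prev0 0 roots0 ws0 rank0 p) 12288 2048 = true := by decide +kernel

theorem node0_7 : allRange (fun p => FischerOut.nodePoint Fi23.Rep.tbl pi prev0 0 roots0 ws0 rank0 p) 14336 2048 = true := by decide +kernel

theorem node0_8 : allRange (fun p => FischerOut.nodePoint Fi23.Rep.tbl pi prev0 0 roots0 ws0 rank0 p) 16384 2048 = true := by decide +kernel

theorem node0_9 : allRange (fun p => FischerOut.nodePoint Fi23.Rep.tbl pi prev0 0 roots0 ws0 rank0 p) 18432 2048 = true := by decide +kernel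

theorem node0_10 : allRange (fun p => FischerOut.nodePoint Fi23.Rep.tbl pi prev0 0 roots0 ws0 rank0 p) 20480 2048 = true := by decide +kernel

theorem node0_11 : allRange (fun p => FischerOut.nodePoint Fi23.Rep.tbl pi prev0 0 roots0 ws0 rank0 p) 22528 2048 = true := by decide +kernel

theorem node0_12 : allRange (fun p => FischerOut.nodePoint Fi23.Rep.tbl pi prev0 0 roots0 ws0 rank0 p) 24576 2048 = true := by decide +kernel

theorem node0_13 : allRange (fun p => FischerOut.nodePoint Fi23.Rep.tbl pi prev0 0 roots0 ws0 rank0 p) 26624 2048 = true := by decide +kernel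

theorem node0_14 : allRange (fun p => FischerOut.nodePoint Fi23.Rep.tbl pi prev0 0 roots0 ws0 rank0 p) 28672 2048 = true := by decide +kernel

theorem node0_15 : allRange (fun p => FischerOut.nodePoint Fi23.Rep.tbl pi prev0 0 roots0 ws0 rank0 p) 30720 951 = true := by decide +kernel

theorem node0 : ∀ p < 31671, FischerOut.nodePoint Fi23.Rep.tbl pi prev0 0 roots0 ws0 rank0 p = true := by
  intro p hp
  rcases Nat.lt_or_ge p 2048 with h | h
  · exact allRange_spec node0_0 p (by omega) (by omega)
  rcases Nat.lt_or_ge p 4096 with h | h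
  · exact allRange_spec node0_1 p (by omega) (by omega)
  rcases Nat.lt_or_ge p 6144 with h | h
  · exact allRange_spec node0_2 p (by omega) (by omega)
  rcases Nat.lt_or_ge p 8192 with h | h
  · exact allRange_spec node0_3 p (by omega) (by omega)
  rcases Nat.lt_or_ge p 10240 with h | h
  · exact allRange_spec node0_4 p (by omega) (by omega)
  rcases Nat.lt_or_ge p 12288 with h | h
  · exact allRange_spec node0_5 p (by omega) (by omega)
  rcases Nat.lt_or_ge p 14336 with h | h
  · exact allRange_spec node0_6 p (by omega) (by omega)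
  rcases Nat.lt_or_ge p 16384 with h | h
  · exact allRange_spec node0_7 p (by omega) (by omega)
  rcases Nat.lt_or_ge p 18432 with h | h
  · exact allRange_spec node0_8 p (by omega) (by omega)
  rcases Nat.lt_or_ge p 20480 with h | h
  · exact allRange_spec node0_9 p (by omega) (by omega)
  rcases Nat.lt_or_ge p 22528 with h | h
  · exact allRange_spec node0_10 p (by omega) (by omega)
  rcases Nat.lt_or_ge p 24576 with h | h
  · exact allRange_spec node0_11 p (by omega) (by omega)
  rcases Nat.lt_or_ge p 26624 with h | h
  · exact allRange_spec node0_12 p (by omega) (by omega)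
  rcases Nat.lt_or_ge p 28672 with h | h
  · exact allRange_spec node0_13 p (by omega) (by omega)
  rcases Nat.lt_or_ge p 30720 with h | h
  · exact allRange_spec node0_14 p (by omega) (by omega)
  exact allRange_spec node0_15 p (by omega) (by omega)

end Cfsg.Agent.Recog71.Fi23Out
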