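import Cfsg.Agent.Recog71.Fi23Out.Data
import Cfsg.Agent.Recog71.FischerOutCore
import Cfsg.Agent.SporB.Fi23.Rep.Data

set_option autoImplicit false
set_option maxRecDepth 100000

namespace Cfsg.Agent.Recog71.Fi23Out

open Cfsg.Agent.CosetEnum

theorem nodeOK5 : FischerOut.nodeOK Fi23.Rep.tbl pi prev5 5 roots5 ws5 = true := by decide +kernel

theorem node5_0 : allRange (fun p => FischerOut.nodePoint Fi23.Rep.tbl pi prev5 5 roots5 ws5 rank5 p) 0 2048 = true := by decide +kernel

theorem node5_1 : allRange (fun p => FischerOut.nodePoint Fi23.Rep.tbl pi prev5 5 roots5 ws5 rank5 p) 2048 2048 = true := by decide +kernel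

theorem node5_2 : allRange (fun p => FischerOut.nodePoint Fi23.Rep.tbl pi prev5 5 roots5 ws5 rank5 p) 4096 2048 = true := by decide +kernel

theorem node5_3 : allRange (fun p => FischerOut.nodePoint Fi23.Rep.tbl pi prev5 5 roots5 ws5 rank5 p) 6144 2048 = true := by decide +kernel

theorem node5_4 : allRange (fun p => FischerOut.nodePoint Fi23.Rep.tbl pi prev5 5 roots5 ws5 rank5 p) 8192 2048 = true := by decide +kernel

theorem node5_5 : allRange (fun p => FischerOut.nodePoint Fi23.Rep.tbl pi prev5 5 roots5 ws5 rank5 p) 10240 2048 = true := by decide +kernel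

theorem node5_6 : allRange (fun p => FischerOut.nodePoint Fi23.Rep.tbl pi prev5 5 roots5 ws5 rank5 p) 12288 2048 = true := by decide +kernel

theorem node5_7 : allRange (fun p => FischerOut.nodePoint Fi23.Rep.tbl pi prev5 5 roots5 ws5 rank5 p) 14336 2048 = true := by decide +kernel

theorem node5_8 : allRange (fun p => FischerOut.nodePoint Fi23.Rep.tbl pi prev5 5 roots5 ws5 rank5 p) 16384 2048 = true := by decide +kernel

theorem node5_9 : allRange (fun p => FischerOut.nodePoint Fi23.Rep.tbl pi prev5 5 roots5 ws5 rank5 p) 18432 2048 = true := by decide +kernel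

theorem node5_10 : allRange (fun p => FischerOut.nodePoint Fi23.Rep.tbl pi prev5 5 roots5 ws5 rank5 p) 20480 2048 = true := by decide +kernel

theorem node5_11 : allRange (fun p => FischerOut.nodePoint Fi23.Rep.tbl pi prev5 5 roots5 ws5 rank5 p) 22528 2048 = true := by decide +kernel

theorem node5_12 : allRange (fun p => FischerOut.nodePoint Fi23.Rep.tbl pi prev5 5 roots5 ws5 rank5 p) 24576 2048 = true := by decide +kernel

theorem node5_13 : allRange (fun p => FischerOut.nodePoint Fi23.Rep.tbl pi prev5 5 roots5 ws5 rank5 p) 26624 2048 = true := by decide +kernel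

theorem node5_14 : allRange (fun p => FischerOut.nodePoint Fi23.Rep.tbl pi prev5 5 roots5 ws5 rank5 p) 28672 2048 = true := by decide +kernel

theorem node5_15 : allRange (fun p => FischerOut.nodePoint Fi23.Rep.tbl pi prev5 5 roots5 ws5 rank5 p) 30720 951 = true := by decide +kernel

theorem node5 : ∀ p < 31671, FischerOut.nodePoint Fi23.Rep.tbl pi prev5 5 roots5 ws5 rank5 p = true := by
  intro p hp
  rcases Nat.lt_or_ge p 2048 with h | h
  · exact allRange_spec node5_0 p (by omega) (by omega)
  rcases Nat.lt_or_ge p 4096 with h | h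
  · exact allRange_spec node5_1 p (by omega) (by omega)
  rcases Nat.lt_or_ge p 6144 with h | h
  · exact allRange_spec node5_2 p (by omega) (by omega)
  rcases Nat.lt_or_ge p 8192 with h | h
  · exact allRange_spec node5_3 p (by omega) (by omega)
  rcases Nat.lt_or_ge p 10240 with h | h
  · exact allRange_spec node5_4 p (by omega) (by omega)
  rcases Nat.lt_or_ge p 12288 with h | h
  · exact allRange_spec node5_5 p (by omega) (by omega)
  rcases Nat.lt_or_ge p 14336 with h | h
  · exact allRange_spec node5_6 p (by omega) (by omega)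
  rcases Nat.lt_or_ge p 16384 with h | h
  · exact allRange_spec node5_7 p (by omega) (by omega)
  rcases Nat.lt_or_ge p 18432 with h | h
  · exact allRange_spec node5_8 p (by omega) (by omega)
  rcases Nat.lt_or_ge p 20480 with h | h
  · exact allRange_spec node5_9 p (by omega) (by omega)
  rcases Nat.lt_or_ge p 22528 with h | h
  · exact allRange_spec node5_10 p (by omega) (by omega)
  rcases Nat.lt_or_ge p 24576 with h | h
  · exact allRange_spec node5_11 p (by omega) (by omega)
  rcases Nat.lt_or_ge p 26624 with h | h
  · exact allRange_spec node5_12 p (by omega) (by omega)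
  rcases Nat.lt_or_ge p 28672 with h | h
  · exact allRange_spec node5_13 p (by omega) (by omega)
  rcases Nat.lt_or_ge p 30720 with h | h
  · exact allRange_spec node5_14 p (by omega) (by omega)
  exact allRange_spec node5_15 p (by omega) (by omega)

end Cfsg.Agent.Recog71.Fi23Out
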