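import Cfsg.Agent.Recog71.Fi23Out.Data
import Cfsg.Agent.Recog71.FischerOutCore
import Cfsg.Agent.SporB.Fi23.Rep.Data

set_option autoImplicit false
set_option maxRecDepth 100000

namespace Cfsg.Agent.Recog71.Fi23Out

open Cfsg.Agent.CosetEnum

theorem code8 : allRange (fun c => FischerOut.comboOK Fi23.Rep.tbl pi base ((FischerOut.combos rounds).getD c [])
    (codes8.getD (c - 1024) (3, 0, []))) 1024 128 = true := by decide +kernel

theorem code9 : allRange (fun c => FischerOut.comboOK Fi23.Rep.tbl pi base ((FischerOut.combos rounds).getD c [])
    (codes9.getD (c - 1152) (3, 0, []))) 1152 128 = true := by decide +kernel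

theorem code10 : allRange (fun c => FischerOut.comboOK Fi23.Rep.tbl pi base ((FischerOut.combos rounds).getD c [])
    (codes10.getD (c - 1280) (3, 0, []))) 1280 128 = true := by decide +kernel

theorem code11 : allRange (fun c => FischerOut.comboOK Fi23.Rep.tbl pi base ((FischerOut.combos rounds).getD c [])
    (codes11.getD (c - 1408) (3, 0, []))) 1408 128 = true := by decide +kernel

end Cfsg.Agent.Recog71.Fi23Out
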